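import Groth.Agent.GrpSchLib.ReducedPoints
import Groth.Agent.GrpSchLib.HomFlat

/-! Surjectivity on geometric points. -/

set_option autoImplicit false

universe u

open CategoryTheory Limits AlgebraicGeometry MonoidalCategory CartesianMonoidalCategory Topology

namespace Groth.Agent.HomogLib

theorem exists_closedPoint_mem {X : Type u} [TopologicalSpace X] [JacobsonSpace X] {s : Set X}
    (hs : IsConstructible s) (hne : s.Nonempty) : ∃ x ∈ s, IsClosed ({x} : Set X) := by
  revert hne
  induction s, hs using BooleanSubalgebra.closure_sdiff_sup_induction with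
  | isSublattice =>
    exact ⟨fun s hs t ht ↦ ⟨hs.1.union ht.1, hs.2.union ht.2⟩,
      fun s hs t ht ↦ ⟨hs.1.inter ht.1, hs.2.inter_isOpen ht.2 ht.1⟩⟩
  | bot_mem => exact ⟨isOpen_empty, .empty⟩
  | top_mem => exact ⟨isOpen_univ, .univ⟩
  | sdiff U hU V hV =>
    intro hne
    obtain ⟨x, hx, hx'⟩ := nonempty_inter_closedPoints hne
      (hU.1.isLocallyClosed.inter hV.1.isClosed_compl.isLocallyClosed)
    exact ⟨x, hx, hx'⟩
  | sup s _ t _ hs ht =>
    rintro ⟨x, hx | hx⟩
    · obtain ⟨y, hy, hy'⟩ := hs ⟨x, hx⟩
      exact ⟨y, Or.inl hy, hy'⟩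
    · obtain ⟨y, hy, hy'⟩ := ht ⟨x, hx⟩
      exact ⟨y, Or.inr hy, hy'⟩

variable {k : Type u} [Field k] (K : Type u) [Field K] [Algebra k K] [IsAlgClosed K]

/-- A morphism of schemes of finite type is surjective iff it is surjective on geometric points. -/
theorem surjective_iff_points {W V : Over (Spec (CommRingCat.of k))} [LocallyOfFiniteType W.hom]
    [QuasiCompact W.hom] [LocallyOfFiniteType V.hom] [QuasiCompact V.hom] [IsSeparated V.hom] (f : W ⟶ V) :
    Surjective f.left ↔
      ∀ v : Over.mk (Spec.map (CommRingCat.ofHom (algebraMap k K))) ⟶ V,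
        ∃ w : Over.mk (Spec.map (CommRingCat.ofHom (algebraMap k K))) ⟶ W, w ≫ f = v := by
  haveI : LocallyOfFiniteType f.left := by
    have : LocallyOfFiniteType (f.left ≫ V.hom) := by rw [Over.w f]; infer_instance
    exact locallyOfFiniteType_of_comp f.left V.hom
  constructor
  · intro _ v
    exact GrpSchLib.exists_point_lift f v
  · intro h
    haveI : QuasiCompact f.left := by
      have : QuasiCompact (f.left ≫ V.hom) := by rw [Over.w f]; infer_instance
      exact QuasiCompact.of_comp f.left V.hom
    haveI : IsLocallyNoetherian V.left := LocallyOfFiniteType.isLocallyNoetherian V.hom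
    haveI : LocallyOfFinitePresentation f.left := inferInstance
    haveI : JacobsonSpace V.left := LocallyOfFiniteType.jacobsonSpace V.hom
    haveI : CompactSpace V.left := (quasiCompact_iff_compactSpace V.hom).mp inferInstance
    have hc : IsConstructible (Set.range f.left)ᶜ := by
      rw [← Set.image_univ]
      exact (f.left.isConstructible_image IsConstructible.univ).compl
    refine ⟨Set.range_eq_univ.mp ?_⟩
    by_contra hne
    obtain ⟨w, hw, hwc⟩ := exists_closedPoint_mem hc (Set.nonempty_compl.mpr hne)
    obtain ⟨v, hv⟩ := GrpSchLib.exists_point_of_isClosed (K := K) V hwc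
    obtain ⟨p, rfl⟩ := h v
    exact hw ⟨p.left (IsLocalRing.closedPoint K), hv⟩

end Groth.Agent.HomogLib
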